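import Cfsg.Agent.S3331
import Cfsg.Agent.Char.CentInv
import Cfsg.Agent.Wong.Excl
import Mathlib.LinearAlgebra.Projectivization.PSL.PSL2

/-! Groups with a central involution `s` and an element `b` of order three with `C(b) = ⟨b, s⟩`. -/

set_option autoImplicit false

namespace Cfsg.Agent.Am33

open Subgroup Cfsg.Agent.Char Cfsg.Agent.Local

theorem key {Γ : Type*} [Group Γ] [Finite Γ] {b s x t : Γ} (h : CI b s) (s1 : s ≠ 1) (hx : x ^ 4 = s)
    (tt : t * t = 1) (tx : t * x * t * x = s) : ∃ K : Subgroup Γ, K.Normal ∧ (∀ y, y ^ 4 = s → y ^ 2 ∈ K) ∧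
      ∀ k ∈ K, (k * b) ^ 3 = 1 ∨ (k * b) ^ 3 = s := by
  obtain ⟨N, hN, hk, -⟩ := h.exists_quot
  have hf := QuotientGroup.mk'_surjective N
  have hs := h.sct hf hk
  set f := QuotientGroup.mk' N
  have fs : f s = 1 := (hk s).mpr (Or.inr rfl)
  have main : ∀ (M : Subgroup (Γ ⧸ N)) [M.Normal], ¬ 3 ∣ Nat.card M →
      (∀ g : (Γ ⧸ N) ⧸ M, g ^ 4 = 1 → g ^ 2 = 1) → ∃ K : Subgroup Γ, K.Normal ∧ (∀ y, y ^ 4 = s → y ^ 2 ∈ K) ∧
        ∀ k ∈ K, (k * b) ^ 3 = 1 ∨ (k * b) ^ 3 = s := fun M hM h3 h4 => by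
    refine ⟨M.comap f, hM.comap f, fun y hy => ?_, fun k hkM => (hk _).mp ?_⟩
    · rw [mem_comap, map_pow, ← QuotientGroup.eq_one_iff, QuotientGroup.mk_pow]
      exact h4 _ (by rw [← QuotientGroup.mk_pow, ← map_pow, hy, fs, QuotientGroup.mk_one])
    · rw [map_pow, map_mul]
      exact Inv3.cube_mul hs ⟨le_normalizer_of_normal' ⊤ M (mem_top _), h3⟩ hkM
  rcases S3331.result (zpowers (f b)) hs.card (le_antisymm (fun g hg => hs.cent g (hg _ (mem_zpowers _)).symm)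
    (le_centralizer _)) with ⟨M, hM, -, h2, h4⟩ | ⟨M, hM, -, h1, ⟨e⟩⟩ | ⟨⟨e⟩⟩
  · refine main M ((Nat.Prime.coprime_iff_not_dvd Nat.prime_three).mp h2.symm) fun g hg => ?_
    have h6 : g ^ 6 = 1 := by
      rcases h4 with h4 | ⟨⟨e⟩⟩
      · rw [show 6 = 3 * 2 from rfl, pow_mul, ← h4, pow_card_eq_one', one_pow]
      · rw [← pow_card_eq_one' (x := g), Nat.card_congr e.toEquiv, Nat.card_perm, Nat.card_fin]; rfl
    rwa [show 6 = 4 + 2 from rfl, pow_add, hg, one_mul] at h6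
  · obtain ⟨k, hk⟩ := (show IsPGroup 2 M from fun g => ⟨1, Subtype.ext (h1 g g.2)⟩).exists_card_eq
    refine main M (fun e => absurd (Nat.prime_three.dvd_of_dvd_pow (hk ▸ e)) (by decide)) fun g hg => e.injective ?_
    rw [map_pow, map_one]
    exact Subtype.ext (S3331.a5_sq _ (e g).2 (by rw [← coe_pow, ← map_pow, hg, map_one, coe_one]))
  exfalso
  have : Fact (Nat.Prime 7) := ⟨by norm_num⟩
  have e1 := PSL2Rec.card_psl2 (F := ZMod 7)
  rw [ZMod.card, ← Nat.card_congr e.toEquiv] at e1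
  norm_num [-Nat.card_eq_fintype_card] at e1
  have := Matrix.ProjectiveSpecialLinearGroup.rank_two_simple (F := ZMod 7) (by simp)
  have := e.isSimpleGroup
  have sq : ∀ g, g * g = s → ∀ c, c * c = 1 → f g ≠ f c := fun g hg c hc e => s1 <| by
    rcases eq_or_of_ker hk e with rfl | rfl
    · exact hg.symm.trans hc
    · rw [← hg, mul_assoc, ← mul_assoc s, ← h.cen, mul_assoc, h.sq, mul_one, hc]
  have x2 : x ^ 2 * x ^ 2 = s := by rw [← pow_add, hx]
  have h2 : f x ^ 2 ≠ 1 := fun e => sq _ x2 1 (one_mul 1) (by rw [map_pow, e, map_one])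
  have ft : f t * f t = 1 := by rw [← map_mul, tt, map_one]
  have h3 : f t * f x * (f t)⁻¹ = (f x)⁻¹ := by
    rw [inv_eq_of_mul_eq_one_left ft, eq_inv_iff_mul_eq_one, ← map_mul, ← map_mul, ← map_mul, tx, fs]
  have h4 : ¬ Commute (f t) (f x) := fun e => h2 <| by
    rw [e.eq, mul_inv_cancel_right] at h3
    rw [pow_two, mul_eq_one_iff_eq_inv, ← h3]
  obtain ⟨g, hg⟩ := isConj_iff.mp (Wong.one_class (a := f x) (u := f t) (n := 1) (t := f t) (fun M hM => by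
    rcases (M.normal_of_index_eq_two hM).eq_bot_or_eq_top with rfl | rfl
    · rw [index_bot] at hM; omega
    · rw [index_top] at hM; omega)
    (orderOf_eq_prime_pow h2 (by rw [← map_pow, show 2 ^ (1 + 1) = 4 from rfl, hx, fs]))
    (h3 ▸ inv_mem (mem_zpowers _)) ft (fun ⟨k, e⟩ => h4 (e ▸ Commute.zpow_self _ k)) (by omega)
    (fun e => h4 (e ▸ Commute.one_left _)) ft)
  obtain ⟨g, rfl⟩ := hf g
  refine sq (g * x ^ 2 * g⁻¹) ?_ t tt (by simpa using hg)
  rw [conj_mul, x2, h.cen, mul_inv_cancel_right]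

end Cfsg.Agent.Am33
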