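import Cfsg.Agent.Am33.Side
import Cfsg.Agent.Am33.Key
import Cfsg.Agent.Am33.IdM
import Cfsg.Agent.Am33.IdL

/-! The completions of the amalgam of two copies of `AGL₂(3)`. -/

set_option autoImplicit false

namespace Cfsg.Agent.Am33

open Subgroup Cfsg.Agent.Mat Cfsg.Agent.Char

variable {G : Type*} [Group G] [Finite G]

/-- Generators of the amalgam. -/
structure Am (z a b s t p q : G) : Prop where
  rA : ∀ r ∈ relsA, ev (lA z a b s t p) r = 1
  rc : RC z a b s t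
  rq : RQ z a b s t q
  gen : ∀ K : Subgroup G, (∀ x ∈ lA z a b s t p, x ∈ K) → q ∈ K → K = ⊤
  cent : ∀ g, g * z = z * g → g * (s * t) = s * t * g → g ∈ zpowers z ∨ g * (s * t) ∈ zpowers z
  s1 : s ≠ 1
  b1 : b ≠ 1
  dvd : 432 ∣ Nat.card G
  lt : 432 < Nat.card G

theorem Am.result {z a b s t p q : G} (h : Am z a b s t p q) :
    Spor.IsoM12 G ∨ Nonempty (G ≃* Matrix.ProjectiveSpecialLinearGroup (Fin 3) (ZMod 3)) := by
  obtain ⟨-, ⟨-, -, b3⟩, ⟨ss, -, sb⟩, tt, -, -, st⟩ := h.rc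
  obtain ⟨q1, q2, q3, q4⟩ := h.rq
  obtain ⟨r, hr⟩ : ∃ r, r = q * p * q * p⁻¹ * q⁻¹ := ⟨_, rfl⟩
  set gs := lA z a b s t p ++ [q, q⁻¹, r, r⁻¹, b * r * b⁻¹, (b * r * b⁻¹)⁻¹] with hgs
  have hl : gs.length = 18 := rfl
  have hAB : ∀ w ∈ relsA ++ relsB, ev gs w = 1 := by
    refine List.forall_mem_append.mpr ⟨fun w hw => ?_, ?_⟩
    · rw [← ev_take (k := 12) ((by decide : ∀ w ∈ relsA, w.all (Nat.blt · 12) = true) w hw)]
      exact h.rA w hw
    · simp only [hgs, relsB, lA, List.forall_mem_cons, ev, List.cons_append, List.nil_append, List.getD_cons_succ,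
        List.getD_cons_zero, mul_one, ← mul_assoc, mul_inv_cancel, inv_mul_cancel, q1, q2, q3, q4, ← hr,
        mul_inv_cancel_right, true_and]
      exact ⟨by group, by simp⟩
  have hg : cl gs = ⊤ := h.gen _ (fun x hx => mem_cl (List.mem_append_left _ hx)) (mem_cl (by simp [hgs]))
  have der := relChk_spec der_chk hl hAB
  simp only [hgs, lA, List.map_cons, List.map_nil, List.forall_mem_cons, ev, List.cons_append, List.nil_append,
    List.getD_cons_succ, List.getD_cons_zero, mul_one] at der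
  obtain ⟨d1, d2, d3, d4, d5, d6, -⟩ := der
  have si : s⁻¹ = s := inv_eq_of_mul_eq_one_left ss
  have e1 : (b * p * b⁻¹ * t) ^ 2 = p := by rw [← mul_inv_eq_one, ← d1, pow_two]; group
  have e2 : (b * r * b⁻¹ * t) ^ 2 = r := by rw [← mul_inv_eq_one, ← d2, pow_two]; group
  have e3 : (b * p * b⁻¹ * t) ^ 4 = s := by
    rw [show 4 = 2 + 2 from rfl, pow_add, e1, ← si, eq_inv_iff_mul_eq_one, mul_assoc, d3]
  have e4 : (b * r * b⁻¹ * t) ^ 4 = s := by
    rw [show 4 = 2 + 2 from rfl, pow_add, e2, ← si, eq_inv_iff_mul_eq_one, mul_assoc, d4]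
  have ts : t * s = s * t := by
    rw [← inv_eq_of_mul_eq_one_left (show s * t * (s * t) = 1 by rw [← mul_assoc, st]), mul_inv_rev, si,
      inv_eq_of_mul_eq_one_left tt]
  have e5 : q * s * q⁻¹ = s * t := by
    rw [← mul_inv_eq_one, mul_inv_rev, si, inv_eq_of_mul_eq_one_left tt, ← d6]; group
  have mk : ∀ {g}, g * s = s * g → g ∈ centralizer {s} := mem_centralizer_singleton_iff.mpr
  have m4 : ∀ {g}, g ^ 4 = s → g ∈ centralizer {s} := fun e => mk (e ▸ (Commute.self_pow _ 4).eq)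
  have zq : ∀ g, q * g * q⁻¹ ∈ zpowers z → g ∈ zpowers b := fun g ⟨k, hk⟩ => ⟨k, by
    have : b = q⁻¹ * z * q⁻¹⁻¹ := by rw [inv_inv, mul_assoc, ← q4, inv_mul_cancel_left]
    simp only [this, conj_zpow] at hk ⊢
    rw [hk]; group⟩
  have hb : orderOf b = 3 := orderOf_eq_prime (by rw [pow_three', b3]) h.b1
  obtain ⟨K, hK, h2, h3⟩ := key (Γ := centralizer {s}) (b := ⟨b, mk sb.symm⟩) (s := ⟨s, mk rfl⟩)
    (x := ⟨_, m4 e3⟩) (t := ⟨t, mk ts⟩) ⟨fun g => Subtype.ext (mem_centralizer_singleton_iff.mp g.2),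
      Subtype.ext ss, by rw [orderOf_mk, hb], fun g hg => by
        have g1 : g.1 * b = b * g := congrArg Subtype.val hg
        have g2 : g.1 * s = s * g := mem_centralizer_singleton_iff.mp g.2
        refine (h.cent (q * g * q⁻¹) ?_ ?_).imp (fun e => ?_) fun e => ?_
        · rw [← mul_inv_eq_iff_eq_mul.mpr q4, conj_mul, conj_mul, g1]
        · rw [← e5, conj_mul, conj_mul, g2]
        · obtain ⟨k, hk⟩ := zq _ e
          exact ⟨k, Subtype.ext hk⟩
        · obtain ⟨k, hk⟩ := zq _ (by rwa [← e5, conj_mul] at e)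
          exact ⟨k, Subtype.ext hk⟩⟩
    (fun e => h.s1 (congrArg Subtype.val e)) (Subtype.ext e3) (Subtype.ext tt)
    (Subtype.ext ((eq_inv_iff_mul_eq_one.mpr (by rw [← d5]; simp only [coe_mul, mul_assoc])).trans si))
  have kp := h2 ⟨_, m4 e3⟩ (Subtype.ext e3)
  have kr := h2 ⟨_, m4 e4⟩ (Subtype.ext e4)
  have kv := hK.conj_mem _ kr ⟨b, mk sb.symm⟩
  have h4 := h3 _ (mul_mem kp kr)
  have h5 := h3 _ (mul_mem kp kv)
  have h6 := h3 _ (mul_mem (mul_mem kp kr) kv)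
  simp only [Subtype.ext_iff, coe_pow, coe_mul, coe_inv, coe_one, e1, e2] at h4 h5 h6
  have c : ∀ g w, ev gs w = g → g ^ 3 = 1 ∨ g ^ 3 = s → ∃ i, (i = [] ∨ i = [6]) ∧ ev gs (w ++ w ++ w ++ i) = 1 := by
    rintro g w rfl (e | e)
    · exact ⟨[], .inl rfl, by rw [List.append_nil, ev_append, ev_append, ← pow_three', e]⟩
    · exact ⟨[6], .inr rfl, by
        rw [ev_append, ev_append, ev_append, ← pow_three', e]
        exact (congrArg (s * ·) (mul_one s)).trans ss⟩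
  obtain ⟨i, hi, c1⟩ := c _ [8, 14, 4] (by simp [hgs, lA, ev, mul_assoc]) h4
  obtain ⟨j, hj, c2⟩ := c _ [8, 16, 4] (by simp [hgs, lA, ev, mul_assoc]) h5
  obtain ⟨k, hk, c3⟩ := c _ [8, 14, 16, 4] (by simp [hgs, lA, ev, mul_assoc]) h6
  have H : ∀ w ∈ rels i j k, ev gs w = 1 := List.forall_mem_append.mpr ⟨hAB, by
    simp only [relsE, List.forall_mem_cons]
    exact ⟨c1, c2, c3, by simp⟩⟩
  have lt := h.lt
  have no : ¬ Nat.card (cl gs) ≤ 1 * 432 := by rw [hg, card_top]; omega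
  have : Nontrivial G := Finite.one_lt_card_iff_nontrivial.mp (by omega)
  rcases hi with rfl | rfl <;> rcases hj with rfl | rfl <;> rcases hk with rfl | rfl
  exacts [absurd (pres_of tc000 gs hl H) no, .inl (isoM12 hl hg H h.dvd), absurd (pres_of tc010 gs hl H) no,
    absurd (pres_of tc011 gs hl H) no, absurd (pres_of tc100 gs hl H) no, absurd (pres_of tc101 gs hl H) no,
    absurd (pres_of tc110 gs hl H) no, .inr (isoL hl hg H)]

end Cfsg.Agent.Am33
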